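import Groth.Agent.KosExt.Sheaf

/-!
Morphisms of modules from linear maps on affine opens; functoriality of Koszul complexes.
-/

universe u

open CategoryTheory CategoryTheory.Limits AlgebraicGeometry TopologicalSpace Opposite

set_option autoImplicit false
set_option backward.isDefEq.respectTransparency false
set_option backward.isDefEq.respectTransparency.types false
set_option linter.style.haveILetI false

noncomputable section

namespace Groth.Agent.KosExt

open Groth.Agent.QC

variable {X : Scheme.{u}}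

lemma exists_affine_le {O : X.Opens} {x : X} (hx : x ∈ O) : ∃ U : X.affineOpens, x ∈ U.1 ∧ U.1 ≤ O := by
  obtain ⟨_, ⟨(U : X.Opens), hU, rfl⟩, hxU, hle⟩ :=
    X.isBasis_affineOpens.exists_subset_of_mem_open (show x ∈ (O : Set X) from hx) O.2
  exact ⟨⟨U, hU⟩, hxU, hle⟩

lemma hom_ext_affine {M N : X.Modules} {φ ψ : M ⟶ N}
    (h : ∀ (U : X.affineOpens) s, φ.app U.1 s = ψ.app U.1 s) : φ = ψ := by
  apply Scheme.Modules.hom_ext
  intro O
  ext s
  refine section_eq_of_locally fun x hx => ?_
  obtain ⟨U, hxU, hle⟩ := exists_affine_le hx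
  exact ⟨U.1, hle, hxU, by rw [app_res, app_res, h]⟩

/-- A natural family of linear maps on affine opens is a morphism of modules. -/
theorem exists_hom_affine (M N : X.Modules)
    (ψ : ∀ U : X.affineOpens, Γ(M, U.1) →ₗ[Γ(X, U.1)] Γ(N, U.1))
    (hψ : ∀ (U V : X.affineOpens) (h : V.1 ≤ U.1) (s : Γ(M, U.1)),
      res N h (ψ U s) = ψ V (res M h s)) :
    ∃ φ : M ⟶ N, ∀ (U : X.affineOpens) s, φ.app U.1 s = ψ U s := by
  have h : ∀ (O : X.Opens) (s : Γ(M, O)), ∃ t : Γ(N, O), ∀ (U : X.affineOpens) (hU : U.1 ≤ O),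
      res N hU t = ψ U (res M hU s) := by
    intro O s
    let I := {U : X.affineOpens // U.1 ≤ O}
    have hcov : O ≤ iSup fun i : I => i.1.1 := fun x hx => by
      obtain ⟨U, hxU, hle⟩ := exists_affine_le hx
      exact Opens.mem_iSup.mpr ⟨⟨U, hle⟩, hxU⟩
    obtain ⟨t, ht, -⟩ := (abSheaf N).existsUnique_gluing' (fun i : I => i.1.1) O
      (fun i => homOfLE i.2) hcov (fun i => ψ i.1 (res M i.2 s)) (fun i j => by
        refine section_eq_of_locally (M := N) fun x hx => ?_
        obtain ⟨W, hxW, hW⟩ := exists_affine_le hx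
        refine ⟨W.1, hW, hxW, ?_⟩
        show res N hW (res N inf_le_left (ψ i.1 (res M i.2 s))) =
          res N hW (res N inf_le_right (ψ j.1 (res M j.2 s)))
        rw [res_res, res_res, hψ _ W, hψ _ W, res_res, res_res])
    exact ⟨t, fun U hU => ht ⟨U, hU⟩⟩
  choose f hf using h
  have hu : ∀ (O : X.Opens) (s : Γ(M, O)) (t : Γ(N, O)),
      (∀ (U : X.affineOpens) (hU : U.1 ≤ O), res N hU t = ψ U (res M hU s)) → f O s = t := by
    intro O s t ht
    refine section_eq_of_locally fun x hx => ?_
    obtain ⟨U, hxU, hle⟩ := exists_affine_le hx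
    exact ⟨U.1, hle, hxU, by rw [hf, ht]⟩
  have hsm : ∀ (O : X.Opens) (r : Γ(X, O)) (s : Γ(M, O)), f O (r • s) = r • f O s := fun O r s =>
    hu _ _ _ fun U hU => by rw [res_smul, res_smul, hf, map_smul]
  refine ⟨⟨PresheafOfModules.homMk
    { app := fun O => AddCommGrpCat.ofHom (AddMonoidHom.mk' (f O.unop)
        (fun a b => hu _ _ _ fun U hU => by rw [map_add, hf, hf, map_add, map_add]))
      naturality := fun O O' i => by
        ext s
        refine hu O'.unop _ _ fun U hU => ?_
        show res N hU (res N i.unop.le (f O.unop s)) = _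
        rw [res_res, hf]
        show _ = ψ U (res M hU (res M i.unop.le s))
        rw [res_res] }
    fun O r s => hsm O.unop r s⟩, fun U s => ?_⟩
  · show f U.1 s = _
    refine hu _ _ _ fun V hV => ?_
    exact hψ U V hV s

variable {E F : X.Modules} {s : E ⟶ Coh.structureModule X} {t : F ⟶ Coh.structureModule X}

/-- The map of Koszul complexes induced by a map over `O_X`. -/
theorem existsUnique_chainMap (f : E ⟶ F) (hf : f ≫ t = s) (C : KoszSh.Cx E s) (D : KoszSh.Cx F t) :
    ∃! φ : C.K ⟶ D.K, ∀ (p : ℕ) (U : X.affineOpens) (e : Fin p → Γ(E, U.1)),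
      (φ.f p).app U.1 ((C.loc p U).symm (exteriorPower.ιMulti _ p e)) =
        (D.loc p U).symm (exteriorPower.ιMulti _ p (fun j => f.app U.1 (e j))) := by
  -- induction on generators of the sections of the terms
  have gen : ∀ (p : ℕ) (U : X.affineOpens) {P : Γ(C.K.X p, U.1) → Prop},
      (∀ e, P ((C.loc p U).symm (exteriorPower.ιMulti _ p e))) → P 0 →
      (∀ a b, P a → P b → P (a + b)) → (∀ (r : Γ(X, U.1)) a, P a → P (r • a)) →
      ∀ z, P z := by
    intro p U P he h0 ha hs z
    rw [← (C.loc p U).symm_apply_apply z]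
    generalize C.loc p U z = y
    have hz : y ∈ Submodule.span Γ(X, U.1)
        (Set.range (exteriorPower.ιMulti Γ(X, U.1) p (M := Γ(E, U.1)))) := by
      rw [exteriorPower.ιMulti_span]; exact Submodule.mem_top
    induction hz using Submodule.span_induction with
    | mem y hy => obtain ⟨e, rfl⟩ := hy; exact he e
    | zero => rw [map_zero]; exact h0
    | add a b _ _ h1 h2 => rw [map_add]; exact ha _ _ h1 h2
    | smul r a _ h1 => rw [map_smul]; exact hs r _ h1
  let ψ : ∀ (p : ℕ) (U : X.affineOpens), Γ(C.K.X p, U.1) →ₗ[Γ(X, U.1)] Γ(D.K.X p, U.1) := fun p U =>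
    (D.loc p U).symm.toLinearMap ∘ₗ exteriorPower.map p (appₗ f U.1) ∘ₗ (C.loc p U).toLinearMap
  have hψe : ∀ (p : ℕ) (U : X.affineOpens) (e : Fin p → Γ(E, U.1)),
      ψ p U ((C.loc p U).symm (exteriorPower.ιMulti _ p e)) =
        (D.loc p U).symm (exteriorPower.ιMulti _ p (fun j => f.app U.1 (e j))) := by
    intro p U e
    simp only [ψ, LinearMap.comp_apply, LinearEquiv.coe_coe, LinearEquiv.apply_symm_apply,
      exteriorPower.map_apply_ιMulti]
    rfl
  have hnat : ∀ (p : ℕ) (U V : X.affineOpens) (h : V.1 ≤ U.1) (z : Γ(C.K.X p, U.1)),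
      res (D.K.X p) h (ψ p U z) = ψ p V (res (C.K.X p) h z) := by
    intro p U V h
    refine gen p U (fun e => ?_) (by rw [map_zero, map_zero, map_zero, map_zero])
      (fun a b h1 h2 => by rw [map_add, map_add, map_add, map_add, h1, h2])
      (fun r a h1 => by rw [map_smul, res_smul, res_smul, h1, map_smul])
    have e1 : res (C.K.X p) h ((C.loc p U).symm (exteriorPower.ιMulti _ p e)) =
        (C.loc p V).symm (exteriorPower.ιMulti _ p fun j => res E h (e j)) := C.loc_res p U V h e
    rw [hψe, e1, hψe]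
    refine (D.loc_res p U V h _).trans ?_
    exact congrArg _ (congrArg _ (funext fun j => app_res f h (e j)))
  choose φ hφ using fun p => exists_hom_affine (C.K.X p) (D.K.X p) (ψ p) (hnat p)
  have hcomm : ∀ p, φ (p + 1) ≫ D.K.d (p + 1) p = C.K.d (p + 1) p ≫ φ p := by
    intro p
    refine hom_ext_affine fun U => ?_
    refine gen (p + 1) U (fun e => ?_) (by rw [map_zero, map_zero])
      (fun a b h1 h2 => by rw [map_add, map_add, h1, h2])
      (fun r a h1 => by rw [Scheme.Modules.Hom.app_smul, Scheme.Modules.Hom.app_smul, h1])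
    simp only [Scheme.Modules.Hom.comp_app, ConcreteCategory.comp_apply]
    rw [hφ, hψe, D.rule p U, C.rule p U, hφ]
    simp only [ψ, LinearMap.comp_apply, LinearEquiv.coe_coe, LinearEquiv.apply_symm_apply,
      KoszSh.dGen, map_sum, map_smul, exteriorPower.map_apply_ιMulti]
    refine Finset.sum_congr rfl fun i _ => ?_
    subst hf
    rfl
  refine ⟨{ f := φ, comm' := fun i j hij => ?_ }, fun p U e => (hφ p U _).trans (hψe p U e), ?_⟩
  · obtain rfl : j + 1 = i := hij
    exact hcomm j
  · intro φ' hφ'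
    refine HomologicalComplex.hom_ext _ _ fun p => hom_ext_affine fun U => ?_
    refine gen p U (fun e => ?_) (by rw [map_zero, map_zero])
      (fun a b h1 h2 => by rw [map_add, map_add, h1, h2])
      (fun r a h1 => by rw [Scheme.Modules.Hom.app_smul, Scheme.Modules.Hom.app_smul, h1])
    exact (hφ' p U e).trans (((hφ p U _).trans (hψe p U e)).symm)

end Groth.Agent.KosExt
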