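import Groth.Agent.KosExt.Ring
import Groth.Agent.QC.Sections
import Groth.Agent.QC.Coherent
import Groth.Agent.Conormal.Maps
import Groth.Agent.DQCoh.Pseudo
import Mathlib.RingTheory.Regular.Flat

/-!
The Koszul complex of a regular cosection resolves.
-/

universe u

open CategoryTheory CategoryTheory.Limits AlgebraicGeometry TopologicalSpace Opposite

set_option autoImplicit false
set_option backward.isDefEq.respectTransparency false
set_option backward.isDefEq.respectTransparency.types false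
set_option linter.style.haveILetI false

noncomputable section

namespace Groth.Agent.KosExt

open Groth.Agent.QC

variable {X : Scheme.{u}}

/-- A basis of sections over an affine open restricts to bases over basic opens. -/
theorem exists_basis_res (M : X.Modules) [M.IsQuasicoherent] {n : ℕ} {U : X.Opens} (hU : IsAffineOpen U)
    (b : Module.Basis (Fin n) Γ(X, U) Γ(M, U)) (f : Γ(X, U)) :
    ∃ b' : Module.Basis (Fin n) Γ(X, X.basicOpen f) Γ(M, X.basicOpen f),
      ∀ k, b' k = res M (X.basicOpen_le f) (b k) := by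
  classical
  set W := X.basicOpen f with hW
  have hle : W ≤ U := X.basicOpen_le f
  have hL : IsLoc M U := isLoc_of_isQCoh hU
  have hu : IsUnit (resO X hle f) := RingedSpace.isUnit_res_basicOpen _ f
  letI := (X.presheaf.map (homOfLE hle).op).hom.toAlgebra
  haveI : IsLocalization.Away f Γ(X, W) := hU.isLocalization_basicOpen f
  let v : Fin n → Γ(M, W) := fun k => res M hle (b k)
  have hli : LinearIndependent Γ(X, W) v := by
    rw [Fintype.linearIndependent_iff]
    intro g hg
    obtain ⟨⟨s, hs⟩, hint⟩ := IsLocalization.exist_integer_multiples_of_finite (Submonoid.powers f) g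
    choose a ha using hint
    have h1 : res M hle (∑ k, a k • b k) = 0 := by
      rw [map_sum]
      have : ∀ k, res M hle (a k • b k) = resO X hle s • (g k • v k) := fun k => by
        rw [res_smul, smul_smul]
        congr 1
        exact (ha k).trans (Algebra.smul_def _ _)
      simp only [this, ← Finset.smul_sum, hg, smul_zero]
    obtain ⟨m, hm⟩ := hL.exists_pow_smul_eq_zero f _ h1
    rw [Finset.smul_sum] at hm
    simp only [smul_smul] at hm
    have h2 := Fintype.linearIndependent_iff.mp b.linearIndependent _ hm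
    intro k
    have h3 : algebraMap Γ(X, U) Γ(X, W) (f ^ m * a k) = 0 := by rw [h2 k, map_zero]
    rw [map_mul, map_pow] at h3
    have hs' : IsUnit (algebraMap Γ(X, U) Γ(X, W) s) :=
      IsLocalization.map_units (S := Γ(X, W)) (M := Submonoid.powers f) ⟨s, hs⟩
    have h4 : algebraMap Γ(X, U) Γ(X, W) (a k) = 0 :=
      ((IsUnit.pow m (IsLocalization.Away.algebraMap_isUnit f)).mul_right_eq_zero).mp h3
    rw [ha k, Algebra.smul_def] at h4
    exact hs'.mul_right_eq_zero.mp h4
  have hsp : ⊤ ≤ Submodule.span Γ(X, W) (Set.range v) := by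
    intro t _
    obtain ⟨m, s, hs⟩ := hL.exists_extend f t
    have : (resO X hle f) ^ m • t ∈ Submodule.span Γ(X, W) (Set.range v) := by
      rw [← hs, ← b.sum_repr s, map_sum]
      refine Submodule.sum_mem _ fun k _ => ?_
      rw [res_smul]
      exact Submodule.smul_mem _ _ (Submodule.subset_span ⟨k, rfl⟩)
    exact (Submodule.smul_mem_iff_of_isUnit _ (hu.pow m)).mp this
  exact ⟨Module.Basis.mk hli hsp, fun k => Module.Basis.mk_apply _ _ k⟩

variable {E : X.Modules} {s : E ⟶ Coh.structureModule X}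

lemma secForm_res {V U : X.Opens} (h : V ≤ U) (e : Γ(E, U)) :
    KoszSh.secForm s V (res E h e) = resO X h (KoszSh.secForm s U e) :=
  (congrArg (OmegaSh.fnSect X V) (app_res s h e).symm).trans rfl

/-- The data of the rule, as linear maps on exterior powers over an affine open. -/
def dLin (C : KoszSh.Cx E s) (p : ℕ) (U : X.affineOpens) :
    ↥(⋀[Γ(X, U.1)]^(p + 1) Γ(E, U.1)) →ₗ[Γ(X, U.1)] ↥(⋀[Γ(X, U.1)]^p Γ(E, U.1)) :=
  (C.loc p U).toLinearMap ∘ₗ appₗ (C.K.d (p + 1) p) U.1 ∘ₗ (C.loc (p + 1) U).symm.toLinearMap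

lemma dLin_ιMulti (C : KoszSh.Cx E s) (p : ℕ) (U : X.affineOpens) (e : Fin (p + 1) → Γ(E, U.1)) :
    dLin C p U (exteriorPower.ιMulti _ (p + 1) e) = KoszSh.dGen (KoszSh.secForm s U.1) p e := by
  show C.loc p U ((C.K.d (p + 1) p).app U.1 ((C.loc (p + 1) U).symm _)) = _
  rw [C.rule p U e, LinearEquiv.apply_symm_apply]

lemma sections_exact (C : KoszSh.Cx E s) {n : ℕ} (W : X.affineOpens)
    (b : Module.Basis (Fin n) Γ(X, W.1) Γ(E, W.1))
    (h : RingTheory.Sequence.IsWeaklyRegular Γ(X, W.1)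
      (List.ofFn fun k => KoszSh.secForm s W.1 (b k))) (p : ℕ)
    (t : Γ(C.K.X (p + 1), W.1)) (ht : (C.K.d (p + 1) p).app W.1 t = 0) :
    ∃ m, (C.K.d (p + 2) (p + 1)).app W.1 m = t := by
  obtain ⟨y, hy⟩ := exact_of_rule b (KoszSh.secForm s W.1) h p (dLin C p W) (dLin C (p + 1) W)
    (dLin_ιMulti C p W) (dLin_ιMulti C (p + 1) W) (C.loc (p + 1) W t) (by
      show C.loc p W ((C.K.d (p + 1) p).app W.1 ((C.loc (p + 1) W).symm _)) = 0
      rw [LinearEquiv.symm_apply_apply, ht, map_zero])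
  exact ⟨(C.loc (p + 2) W).symm y, (C.loc (p + 1) W).injective hy⟩

theorem isZero_homology' [E.IsQuasicoherent] (n : ℕ)
    (hs : ∀ x : X, ∃ U : X.affineOpens, x ∈ U.1 ∧
      ∃ b : Module.Basis (Fin n) Γ(X, U.1) Γ(E, U.1),
        RingTheory.Sequence.IsWeaklyRegular Γ(X, U.1) (List.ofFn fun k => KoszSh.secForm s U.1 (b k)))
    (C : KoszSh.Cx E s) (q : ℕ) (hq : 1 ≤ q) : Limits.IsZero (C.K.homology q) := by
  obtain ⟨p, rfl⟩ : ∃ p, q = p + 1 := ⟨q - 1, by omega⟩
  rw [← HomologicalComplex.exactAt_iff_isZero_homology,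
    C.K.exactAt_iff' (p + 2) (p + 1) p (by simp) (by simp)]
  refine Conormal.exact_of_basis _
    (B := {W | ∃ (U : X.affineOpens) (f : Γ(X, U.1)), W = X.basicOpen f ∧
      ∃ b : Module.Basis (Fin n) Γ(X, U.1) Γ(E, U.1),
        RingTheory.Sequence.IsWeaklyRegular Γ(X, U.1) (List.ofFn fun k => KoszSh.secForm s U.1 (b k))})
    (fun O z hz => ?_) ?_
  · obtain ⟨U, hzU, hb⟩ := hs z
    obtain ⟨f, hf, hzf⟩ := U.2.exists_basicOpen_le ⟨z, hz⟩ hzU
    exact ⟨_, ⟨U, f, rfl, hb⟩, hf, hzf⟩
  · rintro _ ⟨U, f, rfl, b, hreg⟩ t ht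
    obtain ⟨b', hb'⟩ := exists_basis_res E U.2 b f
    refine sections_exact C ⟨X.basicOpen f, U.2.basicOpen f⟩ b' ?_ p t ht
    letI := (X.presheaf.map (homOfLE (X.basicOpen_le f)).op).hom.toAlgebra
    haveI : IsLocalization.Away f Γ(X, X.basicOpen f) := U.2.isLocalization_basicOpen f
    haveI : Module.Flat Γ(X, U.1) Γ(X, X.basicOpen f) :=
      IsLocalization.flat _ (Submonoid.powers f)
    have := RingTheory.Sequence.IsWeaklyRegular.of_flat (S := Γ(X, X.basicOpen f)) hreg
    rw [List.map_ofFn] at this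
    simpa only [hb', secForm_res] using! this

theorem isZero_homology (n : ℕ) (hE : FlatMod.IsFinLocFreeOfRank n E)
    (hs : ∀ x : X, ∃ U : X.affineOpens, x ∈ U.1 ∧
      ∃ b : Module.Basis (Fin n) Γ(X, U.1) Γ(E, U.1),
        RingTheory.Sequence.IsWeaklyRegular Γ(X, U.1) (List.ofFn fun k => KoszSh.secForm s U.1 (b k)))
    (C : KoszSh.Cx E s) (q : ℕ) (hq : 1 ≤ q) : Limits.IsZero (C.K.homology q) :=
  haveI : E.IsQuasicoherent :=
    DQCoh.isQCoh_of_isFinLocFree (fun x => by obtain ⟨U, hU, h⟩ := hE x; exact ⟨U, n, hU, h⟩)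
  isZero_homology' n hs C q hq

end Groth.Agent.KosExt
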