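import Groth.Agent.KosExt.Sheaf
import Groth.Agent.CMFlat.RegImm
import Groth.Agent.LocH.Spread
import Groth.Agent.PBundle.TopPower
import Groth.Agent.LocFree.Summand

/-!
Local regular sequences in Cohen–Macaulay schemes and their Koszul complexes.
-/

universe u

open CategoryTheory CategoryTheory.Limits AlgebraicGeometry TopologicalSpace Opposite

set_option autoImplicit false
set_option backward.isDefEq.respectTransparency false
set_option backward.isDefEq.respectTransparency.types false
set_option linter.style.haveILetI false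

noncomputable section

namespace Groth.Agent.KosExt

open RingTheory.Sequence

/-- A sequence regular in a Noetherian local ring at a prime is regular on a basic open. -/
theorem exists_away_weaklyRegular {R : Type u} [CommRing R] [IsNoetherianRing R] (p : Ideal R) [p.IsPrime]
    (L : List R)
    (h : IsWeaklyRegular (LocalizedModule p.primeCompl R) (L.map (algebraMap R (Localization.AtPrime p)))) :
    ∃ g ∉ p, ∀ (S : Type u) [CommRing S] [Algebra R S] [IsLocalization.Away g S],
      IsWeaklyRegular S (L.map (algebraMap R S)) := by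
  obtain ⟨g, hg, hgq⟩ := LocH.exists_notMem_weaklyRegular p L h
  refine ⟨g, hg, fun S _ _ _ => ?_⟩
  have hS : IsWeaklyRegular (LocalizedModule (Submonoid.powers g) R)
      (L.map (algebraMap R (Localization (Submonoid.powers g)))) := by
    rw [LocH.weaklyRegular_localized_iff]
    intro i hi m hm
    set J := Ideal.ofList (L.take i) • (⊤ : Submodule R R)
    let K : Ideal R := J.comap (LinearMap.toSpanSingleton R R m)
    have hK : g ∈ K.radical := by
      rw [Ideal.radical_eq_sInf, Submodule.mem_sInf]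
      rintro (q : Ideal R) ⟨hKq, hq⟩
      by_contra hgn
      haveI := hq
      obtain ⟨t, ht, htm⟩ := (LocH.weaklyRegular_localized_iff (Ideal.primeCompl q) L).mp (hgq q hgn) i hi m hm
      exact ht (hKq htm)
    obtain ⟨k, hk⟩ := hK
    exact ⟨g ^ k, ⟨k, rfl⟩, hk⟩
  rw [isWeaklyRegular_map_algebraMap_iff] at hS ⊢
  haveI : IsLocalizedModule (Submonoid.powers g) (IsScalarTower.toAlgHom R R S).toLinearMap :=
    isLocalizedModule_iff_isLocalization.mpr (by
      simpa [Algebra.algebraMapSubmonoid, Submonoid.map_id] using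
        (inferInstance : IsLocalization (Submonoid.powers g) S))
  exact ((IsLocalizedModule.iso (Submonoid.powers g)
    (IsScalarTower.toAlgHom R R S).toLinearMap).isWeaklyRegular_congr L).mp hS

variable {X Y : Scheme.{u}}

theorem exists_regularSeq [IsLocallyNoetherian X]
    (hCM : ∀ x : X, LocCoh.IsCohenMacaulayLocalRing (X.presheaf.stalk x))
    (i : Y ⟶ X) [IsClosedImmersion i] (c : ℕ) (y : Y) (U : X.affineOpens) (hy : i y ∈ U.1)
    (g : Fin c → Γ(X, U.1)) (hg : i.ker.ideal U = Ideal.span (Set.range g))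
    (hht : (c : ℕ∞) ≤ (RingHom.ker (i.stalkMap y).hom).height) :
    ∃ (V : X.affineOpens), i y ∈ V.1 ∧ ∃ f : Fin c → Γ(X, V.1),
      i.ker.ideal V = Ideal.span (Set.range f) ∧ IsWeaklyRegular Γ(X, V.1) (List.ofFn f) := by
  haveI : IsNoetherianRing Γ(X, U.1) := IsLocallyNoetherian.component_noetherian U
  letI := (X.presheaf.germ U.1 (i y) hy).hom.toAlgebra
  haveI := U.2.isLocalization_stalk ⟨i y, hy⟩
  set p := (U.2.primeIdealOf ⟨i y, hy⟩).asIdeal
  haveI hst : IsLocalization p.primeCompl (X.presheaf.stalk (i y)) := U.2.isLocalization_stalk ⟨i y, hy⟩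
  have hker : RingHom.ker (i.stalkMap y).hom =
      (Ideal.span (Set.range g)).map (algebraMap Γ(X, U.1) (X.presheaf.stalk (i y))) := by
    rw [CMFlat.ker_stalkMap_eq i y U hy, ← Scheme.Hom.ker_apply, hg]
    rfl
  let xs := (List.ofFn g).map (algebraMap Γ(X, U.1) (X.presheaf.stalk (i y)))
  have hof : Ideal.ofList xs = RingHom.ker (i.stalkMap y).hom := by
    rw [hker, ← Ideal.map_ofList]
    congr 1
    simp [Ideal.ofList, Set.range]
  haveI := hCM (i y)
  have hreg : IsWeaklyRegular (X.presheaf.stalk (i y)) xs := by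
    refine (CMFlat.isWeaklyRegular_of_height xs (fun x hx => ?_) (fun q hq hle => ?_)).1
    · have h1 : x ∈ RingHom.ker (i.stalkMap y).hom := hof ▸ Ideal.subset_span hx
      rw [IsLocalRing.mem_maximalIdeal]
      intro hu
      have := hu.map (i.stalkMap y).hom
      rw [RingHom.mem_ker.mp h1] at this
      exact not_isUnit_zero this
    · haveI := hq
      rw [List.length_map, List.length_ofFn]
      exact hht.trans (Ideal.height_mono (hof ▸ hle))
  rw [isWeaklyRegular_map_algebraMap_iff] at hreg
  haveI : IsLocalizedModule p.primeCompl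
      (IsScalarTower.toAlgHom Γ(X, U.1) Γ(X, U.1) (X.presheaf.stalk (i y))).toLinearMap :=
    isLocalizedModule_iff_isLocalization.mpr (by
      rwa [show Algebra.algebraMapSubmonoid Γ(X, U.1) p.primeCompl = p.primeCompl from Submonoid.map_id _])
  have hloc : IsWeaklyRegular (LocalizedModule p.primeCompl Γ(X, U.1))
      ((List.ofFn g).map (algebraMap Γ(X, U.1) (Localization.AtPrime p))) := by
    rw [isWeaklyRegular_map_algebraMap_iff]
    exact ((IsLocalizedModule.iso p.primeCompl
      (IsScalarTower.toAlgHom Γ(X, U.1) Γ(X, U.1) (X.presheaf.stalk (i y))).toLinearMap).isWeaklyRegular_congr _).mpr hreg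
  obtain ⟨h, hhp, hh⟩ := exists_away_weaklyRegular p (List.ofFn g) hloc
  have hyV : i y ∈ X.basicOpen h := by
    by_contra hn
    apply hhp
    rw [U.2.primeIdealOf_eq_map_closedPoint] at *
    by_contra hp2
    apply hn
    rw [Scheme.mem_basicOpen X h (i y) hy]
    exact IsLocalization.map_units (M := p.primeCompl) (X.presheaf.stalk (i y)) ⟨h, hp2⟩
  refine ⟨X.affineBasicOpen h, hyV, fun k => QC.resO X (X.basicOpen_le h) (g k), ?_, ?_⟩
  · rw [← i.ker.map_ideal_basicOpen U h, hg, Ideal.map_span, ← Set.range_comp]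
    rfl
  · letI := (X.presheaf.map (homOfLE (X.basicOpen_le h)).op).hom.toAlgebra
    haveI : IsLocalization.Away h Γ(X, X.basicOpen h) := U.2.isLocalization_basicOpen h
    have := hh Γ(X, X.basicOpen h)
    rw [List.map_ofFn] at this
    exact this

theorem exists_regularSeq_koszul [IsLocallyNoetherian X]
    (hCM : ∀ x : X, LocCoh.IsCohenMacaulayLocalRing (X.presheaf.stalk x))
    (i : Y ⟶ X) [IsClosedImmersion i] (c : ℕ)
    (hgen : ∀ y : Y, ∃ U : X.affineOpens, i.base y ∈ U.1 ∧
      ∃ g : Fin c → Γ(X, U.1), i.ker.ideal U = Ideal.span (Set.range g))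
    (hht : ∀ y : Y, (c : ℕ∞) ≤ (RingHom.ker (i.stalkMap y).hom).height) (y : Y) :
    ∃ U : X.affineOpens, i.base y ∈ U.1 ∧
      ∃ f : Fin c → Γ(X, U.1), i.ker.ideal U = Ideal.span (Set.range f) ∧
        IsWeaklyRegular Γ(X, U.1) (List.ofFn f) ∧
        ∀ (s : FlatMod.freeMod (↑U.1) c ⟶ Coh.structureModule (↑U.1)),
          (∀ k : Fin c, KoszSh.secForm s ⊤
              ((Limits.Sigma.ι (fun _ : Fin c => Coh.structureModule (↑U.1)) k).app ⊤
                (OmegaSh.strSect (↑U.1) ⊤ 1)) = U.1.topIso.inv (f k)) →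
          ∀ (C : KoszSh.Cx (FlatMod.freeMod (↑U.1) c) s) (q : ℕ), 1 ≤ q →
            Limits.IsZero (C.K.homology q) := by
  obtain ⟨U, hy, g, hg⟩ := hgen y
  obtain ⟨V, hyV, f, hf, hreg⟩ := exists_regularSeq hCM i c y U hy g hg (hht y)
  refine ⟨V, hyV, f, hf, hreg, fun s hs C q hq => ?_⟩
  haveI : (FlatMod.freeMod (V.1 : Scheme.{u}) c).IsQuasicoherent :=
    DQCoh.isQCoh_of_isFinLocFree (LocFree.isFinLocFree_of_retract _ c (𝟙 _) (𝟙 _) (Category.id_comp _))
  refine isZero_homology' c (fun x => ?_) C q hq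
  · haveI : IsAffine (V.1 : Scheme.{u}) := V.2
    let e := (TMul.IsFrame.equiv (PBundle.isFrame_bv (V.1 : Scheme.{u}) c)
      (le_refl (⊤ : (V.1 : Scheme.{u}).Opens)))
    refine ⟨⟨⊤, isAffineOpen_top _⟩, trivial, Module.Basis.ofEquivFun e.symm, ?_⟩
    have hb : ∀ k, Module.Basis.ofEquivFun e.symm k =
        (Limits.Sigma.ι (fun _ : Fin c => Coh.structureModule (↑V.1)) k).app ⊤
          (OmegaSh.strSect (↑V.1) ⊤ 1) := by
      intro k
      rw [Module.Basis.coe_ofEquivFun, LinearEquiv.symm_symm]
      show ∑ j, Pi.single k 1 j • QC.res _ le_rfl (PBundle.bv _ j) = _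
      rw [Finset.sum_eq_single k (fun j _ hj => by simp [Pi.single_eq_of_ne hj]) (by simp),
        Pi.single_eq_same, one_smul, QC.res_self]
      rfl
    simp only [hb, hs]
    letI := V.1.topIso.inv.hom.toAlgebra
    haveI : Module.Flat Γ(X, V.1) Γ((V.1 : Scheme.{u}), ⊤) :=
      RingHom.Flat.of_bijective (ConcreteCategory.bijective_of_isIso V.1.topIso.inv)
    have := IsWeaklyRegular.of_flat (S := Γ((V.1 : Scheme.{u}), ⊤)) hreg
    rw [List.map_ofFn] at this
    exact this

end Groth.Agent.KosExt
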