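import Groth.Agent.Wiebe.Basic
import Groth.Prelude.Def_KoszulSh
import Mathlib.LinearAlgebra.CliffordAlgebra.Contraction
import Mathlib.LinearAlgebra.ExteriorAlgebra.Grading
import Mathlib.RingTheory.Regular.RegularSequence

/-!
Exactness of the Koszul complex on exterior powers for a weakly regular sequence.
-/

set_option autoImplicit false
set_option backward.isDefEq.respectTransparency false
set_option backward.isDefEq.respectTransparency.types false

universe u v

namespace Groth.Agent.KosExt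

open Groth.Agent Wiebe

section Model

variable {R : Type u} [CommRing R]

/-- One more element which is a nonzerodivisor modulo the others keeps the model acyclic. -/
theorem acyclic_succ {n : ℕ} (f : Fin (n + 1) → R) (h : Acyclic (Fin.tail f))
    (hnzd : ∀ r, f 0 * r ∈ Ideal.span (Set.range (Fin.tail f)) →
      r ∈ Ideal.span (Set.range (Fin.tail f))) : Acyclic f := by
  intro z hz
  have h0 : d (Fin.tail f) (p0 z) + f 0 • p1 z = 0 := by rw [← p0_d, hz, map_zero]
  have h1 : d (Fin.tail f) (p1 z) = 0 := by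
    have := p1_d f z
    rw [hz, map_zero] at this
    exact neg_eq_zero.mp this.symm
  have he : eps (p1 z) ∈ Ideal.span (Set.range (Fin.tail f)) := by
    refine hnzd _ ?_
    have := congrArg eps h0
    rw [map_add, map_smul, map_zero, smul_eq_mul, add_eq_zero_iff_neg_eq] at this
    rw [← this]
    exact neg_mem (eps_mem _ _ (d_mem _ _))
  obtain ⟨v₁, -, hv₁⟩ := h.exists_primitive h1 he
  obtain ⟨v₀, r, hv₀⟩ := h (p0 z + f 0 • v₁) (by rw [map_add, map_smul, hv₁]; exact h0)
  refine ⟨mk (v₀, -v₁), r, ?_⟩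
  have hz0 : p0 z = d (Fin.tail f) v₀ + r • bot R n - f 0 • v₁ := eq_sub_of_add_eq hv₀
  apply Wiebe.ext'
  · simp only [map_add, p0_d, p0_mk, p1_mk, map_smul, bot, smul_neg, hz0]
    abel
  · simp only [map_add, p1_d, p1_mk, map_neg, neg_neg, map_smul, bot, smul_zero, add_zero, hv₁]

/-- Weakly regular sequences give acyclic models. -/
theorem acyclic_rev {n : ℕ} (f : Fin n → R)
    (h : RingTheory.Sequence.IsWeaklyRegular R (List.ofFn f)) :
    Acyclic (fun i => f i.rev) := by
  induction n with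
  | zero =>
    intro z _
    exact ⟨0, eps z, by ext s; simp [d, eps, bot, Subsingleton.elim s Fin.elim0]⟩
  | succ n ih =>
    rw [List.ofFn_succ'] at h
    simp only [List.concat_eq_append, RingTheory.Sequence.isWeaklyRegular_append_iff,
      RingTheory.Sequence.isWeaklyRegular_singleton_iff] at h
    have ht : Fin.tail (fun i : Fin (n + 1) => f i.rev) = fun i : Fin n => f i.rev.castSucc := by
      funext i; simp [Fin.tail, Fin.rev_succ]
    refine acyclic_succ _ (by rw [ht]; exact ih (fun i => f i.castSucc) h.1) fun r hr => ?_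
    have hI : Ideal.span (Set.range (Fin.tail fun i : Fin (n + 1) => f i.rev)) =
        (Ideal.ofList (List.ofFn fun i : Fin n => f i.castSucc) • ⊤ : Submodule R R) := by
      rw [smul_eq_mul, Ideal.mul_top, Ideal.ofList, ht]
      congr 1
      ext x
      simp only [Set.mem_range, Set.mem_ofPred_eq, List.mem_ofFn]
      constructor
      · rintro ⟨i, hi⟩; exact ⟨i.rev, hi⟩
      · rintro ⟨i, hi⟩; exact ⟨i.rev, by simpa using hi⟩
    rw [hI] at hr ⊢
    rw [← Submodule.Quotient.mk_eq_zero] at hr ⊢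
    refine h.2.right_eq_zero_of_smul ?_
    rw [← Submodule.Quotient.mk_smul]
    simpa [Fin.rev_zero] using hr

end Model

variable {R : Type u} [CommRing R] {M : Type v} [AddCommGroup M] [Module R M]

local notation "EA" => ExteriorAlgebra R M

/-- Contraction with a linear form. -/
noncomputable def con (φ : M →ₗ[R] R) : EA →ₗ[R] EA :=
  CliffordAlgebra.contractLeft (Q := (0 : QuadraticForm R M)) φ

lemma con_ι_mul (φ : M →ₗ[R] R) (m : M) (x : EA) :
    con φ (ExteriorAlgebra.ι R m * x) = φ m • x - ExteriorAlgebra.ι R m * con φ x :=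
  CliffordAlgebra.contractLeft_ι_mul _ _ _

lemma con_one (φ : M →ₗ[R] R) : con φ (1 : EA) = 0 := CliffordAlgebra.contractLeft_one _ _

/-- Contraction of a decomposable element is the Koszul boundary. -/
theorem con_ιMulti (φ : M →ₗ[R] R) : ∀ (p : ℕ) (e : Fin (p + 1) → M),
    con φ (ExteriorAlgebra.ιMulti R (p + 1) e) = ((KoszSh.dGen φ p e : ↥(⋀[R]^p M)) : EA) := by
  intro p
  induction p with
  | zero =>
    intro e
    rw [ExteriorAlgebra.ιMulti_succ_apply, ExteriorAlgebra.ιMulti_zero_apply, con_ι_mul, con_one,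
      mul_zero, sub_zero]
    simp [KoszSh.dGen, ExteriorAlgebra.ιMulti_zero_apply]
  | succ p ih =>
    intro e
    rw [ExteriorAlgebra.ιMulti_succ_apply, con_ι_mul, ih]
    simp only [KoszSh.dGen, Submodule.coe_sum, Submodule.coe_smul_of_tower,
      exteriorPower.ιMulti_apply_coe]
    rw [Fin.sum_univ_succ (n := p + 1), Finset.mul_sum, sub_eq_add_neg, ← Finset.sum_neg_distrib]
    congr 1
    · simp [Fin.succAbove_zero, Matrix.vecTail]
      rfl
    · refine Finset.sum_congr rfl fun i _ => ?_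
      rw [mul_smul_comm, ExteriorAlgebra.ιMulti_succ_apply (v := fun j => e (i.succ.succAbove j)),
        ← neg_smul]
      congr 1
      · simp [Matrix.vecTail, pow_succ]
      · congr 2
        funext j
        simp [Matrix.vecTail, Fin.succ_succAbove_succ]

/-- The comparison from the elementary model. -/
noncomputable def Ψ : ∀ {n : ℕ}, (Fin n → M) → (X R n →ₗ[R] EA)
  | 0, _ => (eps : X R 0 →ₗ[R] R).smulRight 1
  | _ + 1, b => Ψ (Fin.tail b) ∘ₗ p0 +
      (LinearMap.mulLeft R (ExteriorAlgebra.ι R (b 0))) ∘ₗ Ψ (Fin.tail b) ∘ₗ p1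

lemma Ψ_bot : ∀ {n : ℕ} (b : Fin n → M), Ψ b (bot R n) = (1 : EA) := by
  intro n
  induction n with
  | zero => intro b; simp [Ψ, eps_bot]
  | succ n ih => intro b; simp [Ψ, bot, ih]

lemma Ψ_w : ∀ {n : ℕ} (b : Fin n → M) (c : Fin n → R) (z : X R n),
    Ψ b (w c z) = ExteriorAlgebra.ι R (∑ i, c i • b i) * Ψ b z := by
  intro n
  induction n with
  | zero => intro b c z; simp [Ψ, w]
  | succ n ih =>
    intro b c z
    simp only [Ψ, LinearMap.add_apply, LinearMap.comp_apply, p0_w, p1_w, map_sub, map_smul,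
      LinearMap.mulLeft_apply, ih, Fin.sum_univ_succ, map_add, add_mul, mul_add, smul_mul_assoc]
    rw [← mul_assoc (ExteriorAlgebra.ι R (b 0)) (ExteriorAlgebra.ι R (b 0)),
      ExteriorAlgebra.ι_sq_zero, zero_mul, smul_zero, ← mul_assoc, ← mul_assoc,
      eq_neg_of_add_eq_zero_left (ExteriorAlgebra.ι_add_mul_swap (b 0) (∑ i, Fin.tail c i • Fin.tail b i)), neg_mul, sub_neg_eq_add]
    simp only [Fin.tail]
    abel

lemma con_Ψ (φ : M →ₗ[R] R) : ∀ {n : ℕ} (b : Fin n → M) (z : X R n),
    con φ (Ψ b z) = Ψ b (d (fun i => φ (b i)) z) := by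
  intro n
  induction n with
  | zero => intro b z; simp [Ψ, d, con_one]
  | succ n ih =>
    intro b z
    have ht : Fin.tail (fun i => φ (b i)) = fun i => φ (Fin.tail b i) := rfl
    simp only [Ψ, LinearMap.add_apply, LinearMap.comp_apply, map_add, LinearMap.mulLeft_apply,
      con_ι_mul, ih, p0_d, p1_d, map_neg, map_smul, mul_neg, ht]
    abel

lemma Ψ_surjective {n : ℕ} (b : Fin n → M) (hb : Submodule.span R (Set.range b) = ⊤) :
    Function.Surjective (Ψ (R := R) b) := by
  intro x
  induction x using CliffordAlgebra.left_induction with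
  | algebraMap r => exact ⟨r • bot R n, by rw [map_smul, Ψ_bot, Algebra.algebraMap_eq_smul_one]⟩
  | add x y hx hy =>
    obtain ⟨a, rfl⟩ := hx
    obtain ⟨c, rfl⟩ := hy
    exact ⟨a + c, map_add _ _ _⟩
  | ι_mul x m hx =>
    obtain ⟨a, rfl⟩ := hx
    obtain ⟨c, hc⟩ := (Submodule.mem_span_range_iff_exists_fun R).mp
      (hb ▸ Submodule.mem_top : m ∈ Submodule.span R (Set.range b))
    exact ⟨w c a, by rw [Ψ_w, hc]⟩

lemma psi_single_eq : ∀ {n : ℕ} (z : X R n),
    psi (fun i => Pi.single i 1 : Fin n → Fin n → R) z = z := by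
  intro n
  induction n with
  | zero => intro z; ext s; simp [psi, eps, bot, Subsingleton.elim s Fin.elim0]
  | succ n ih =>
    intro z
    have ht : Fin.tail (fun i => Pi.single i 1 : Fin (n + 1) → Fin (n + 1) → R) =
        fun i => (Fin.cons 0 (Pi.single i 1 : Fin n → R) : Fin (n + 1) → R) := by
      funext i j
      refine Fin.cases ?_ (fun k => ?_) j
      · simp [Fin.tail]
      · simp [Fin.tail, Pi.single_apply]
    have h0 : Fin.tail (α := fun _ => R) (Pi.single (0 : Fin (n + 1)) (1 : R)) = (0 : Fin n → R) := by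
      funext i; simp [Fin.tail]
    simp only [psi, LinearMap.add_apply, LinearMap.comp_apply, ht, psi_cons_zero, ih]
    apply Wiebe.ext' <;> simp [h0, w_zero]

/-- The inverse comparison for a basis. -/
noncomputable def Φ {n : ℕ} (b : Module.Basis (Fin n) R M) (x : EA) : X R n :=
  ExteriorAlgebra.lift R ⟨(W R n).comp b.equivFun.toLinearMap,
    fun v => LinearMap.ext (w_w (b.equivFun v))⟩ x (bot R n)

lemma Φ_Ψ {n : ℕ} (b : Module.Basis (Fin n) R M) : ∀ {m : ℕ} (v : Fin m → M) (z : X R m),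
    Φ b (Ψ v z) = psi (fun i => b.equivFun (v i)) z := by
  intro m
  induction m with
  | zero => intro v z; simp [Ψ, psi, Φ]
  | succ m ih =>
    intro v z
    have ht : Fin.tail (fun i => b.equivFun (v i)) = fun i => b.equivFun (Fin.tail v i) := rfl
    simp only [Ψ, psi, LinearMap.add_apply, LinearMap.comp_apply, LinearMap.mulLeft_apply, ht, ← ih]
    simp only [Φ, map_add, map_mul, Module.End.mul_apply, ExteriorAlgebra.lift_ι_apply,
      LinearMap.add_apply, LinearMap.comp_apply, LinearEquiv.coe_coe]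
    rfl

lemma Ψ_injective {n : ℕ} (b : Module.Basis (Fin n) R M) : Function.Injective (Ψ (R := R) b) := by
  refine Function.LeftInverse.injective (g := Φ b) fun z => ?_
  rw [Φ_Ψ]
  have : (fun i => b.equivFun (b i)) = (fun i => Pi.single i 1 : Fin n → Fin n → R) := by
    funext i j
    simp [Pi.single_apply, Finsupp.single_apply, eq_comm]
  rw [this, psi_single_eq]

lemma con_mem (φ : M →ₗ[R] R) {p : ℕ} {x : EA} (hx : x ∈ ⋀[R]^(p + 1) M) :
    con φ x ∈ ⋀[R]^p M := by
  rw [← exteriorPower.ιMulti_span_fixedDegree] at hx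
  induction hx using Submodule.span_induction with
  | mem y hy => obtain ⟨e, rfl⟩ := hy; rw [con_ιMulti]; exact Subtype.coe_prop _
  | zero => simp
  | add y z _ _ hy hz => rw [map_add]; exact add_mem hy hz
  | smul r y _ hy => rw [map_smul]; exact Submodule.smul_mem _ _ hy

/-- Exactness of the contraction in positive degrees. -/
theorem con_exact {n : ℕ} (b : Module.Basis (Fin n) R M) (φ : M →ₗ[R] R)
    (h : RingTheory.Sequence.IsWeaklyRegular R (List.ofFn fun k => φ (b k))) (p : ℕ)
    {x : EA} (hx : x ∈ ⋀[R]^(p + 1) M) (h0 : con φ x = 0) :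
    ∃ y ∈ ⋀[R]^(p + 2) M, con φ y = x := by
  classical
  let b' : Module.Basis (Fin n) R M := b.reindex Fin.revPerm
  have hb' : ∀ i, b' i = b i.rev := fun i => by simp [b']
  have hacy : Acyclic (fun i => φ (b' i)) := by
    have := acyclic_rev (fun k => φ (b k)) h
    simpa only [hb'] using this
  obtain ⟨z, rfl⟩ := Ψ_surjective (R := R) b' b'.span_eq x
  obtain ⟨v, r, hv⟩ := hacy z (Ψ_injective b' (by rw [map_zero, ← con_Ψ, h0]))
  have hy : ∀ (y : EA), con φ (GradedAlgebra.proj (fun i : ℕ ↦ ⋀[R]^i M) (p + 2) y) =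
      GradedAlgebra.proj (fun i : ℕ ↦ ⋀[R]^i M) (p + 1) (con φ y) := by
    intro y
    induction y using DirectSum.Decomposition.inductionOn (ℳ := fun i : ℕ ↦ ⋀[R]^i M) with
    | zero => simp
    | homogeneous m =>
      rename_i j
      simp only [GradedAlgebra.proj_apply]
      rcases j with _ | j
      · have h00 : con φ (m : EA) = 0 := by
          have hm : (m : EA) ∈ (1 : Submodule R EA) := by
            have := m.2
            simpa [ExteriorAlgebra.exteriorPower] using this
          obtain ⟨a, ha⟩ := Submodule.mem_one.mp hm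
          rw [← ha, Algebra.algebraMap_eq_smul_one, map_smul, con_one, smul_zero]
        rw [h00, DirectSum.decompose_of_mem_ne (fun i : ℕ ↦ ⋀[R]^i M) m.2 (by omega)]
        simp
      · by_cases hj : j = p + 1
        · subst hj
          rw [DirectSum.decompose_of_mem_same (fun i : ℕ ↦ ⋀[R]^i M) m.2,
            DirectSum.decompose_of_mem_same (fun i : ℕ ↦ ⋀[R]^i M) (con_mem φ m.2)]
        · rw [DirectSum.decompose_of_mem_ne (fun i : ℕ ↦ ⋀[R]^i M) m.2 (by omega),
            DirectSum.decompose_of_mem_ne (fun i : ℕ ↦ ⋀[R]^i M) (con_mem φ m.2) hj, map_zero]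
    | add y y' hy hy' => simp only [map_add, hy, hy']
  refine ⟨GradedAlgebra.proj (fun i : ℕ ↦ ⋀[R]^i M) (p + 2) (Ψ b' v), ?_, ?_⟩
  · rw [GradedAlgebra.proj_apply]; exact Subtype.coe_prop _
  · rw [hy, con_Ψ]
    have h1 : (1 : EA) ∈ ⋀[R]^0 M := by simp [ExteriorAlgebra.exteriorPower]
    have h2 := congrArg (GradedAlgebra.proj (fun i : ℕ ↦ ⋀[R]^i M) (p + 1)) (congrArg (Ψ b') hv)
    simp only [map_add, map_smul, Ψ_bot] at h2
    rw [GradedAlgebra.proj_apply (𝒜 := fun i : ℕ ↦ ⋀[R]^i M) (r := Ψ b' z),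
      DirectSum.decompose_of_mem_same (fun i : ℕ ↦ ⋀[R]^i M) hx,
      GradedAlgebra.proj_apply (𝒜 := fun i : ℕ ↦ ⋀[R]^i M) (r := (1 : EA)),
      DirectSum.decompose_of_mem_ne (fun i : ℕ ↦ ⋀[R]^i M) h1 (by omega)] at h2
    simpa using h2.symm

/-- Exactness for any maps satisfying the Koszul rule on decomposable elements. -/
theorem exact_of_rule {n : ℕ} (b : Module.Basis (Fin n) R M) (φ : M →ₗ[R] R)
    (h : RingTheory.Sequence.IsWeaklyRegular R (List.ofFn fun k => φ (b k))) (p : ℕ)
    (D : ↥(⋀[R]^(p + 1) M) →ₗ[R] ↥(⋀[R]^p M))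
    (D' : ↥(⋀[R]^(p + 2) M) →ₗ[R] ↥(⋀[R]^(p + 1) M))
    (hD : ∀ e, D (exteriorPower.ιMulti R (p + 1) e) = KoszSh.dGen φ p e)
    (hD' : ∀ e, D' (exteriorPower.ιMulti R (p + 2) e) = KoszSh.dGen φ (p + 1) e)
    (x : ↥(⋀[R]^(p + 1) M)) (hx : D x = 0) : ∃ y, D' y = x := by
  have key : ∀ (q : ℕ) (L : ↥(⋀[R]^(q + 1) M) →ₗ[R] ↥(⋀[R]^q M)),
      (∀ e, L (exteriorPower.ιMulti R (q + 1) e) = KoszSh.dGen φ q e) →
      ∀ y : ↥(⋀[R]^(q + 1) M), (L y : EA) = con φ (y : EA) := by
    intro q L hL y
    have hy : y ∈ Submodule.span R (Set.range (exteriorPower.ιMulti R (q + 1) (M := M))) := by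
      rw [exteriorPower.ιMulti_span]; exact Submodule.mem_top
    induction hy using Submodule.span_induction with
    | mem z hz => obtain ⟨e, rfl⟩ := hz; rw [hL, exteriorPower.ιMulti_apply_coe, con_ιMulti]
    | zero => simp
    | add z w _ _ hz hw => simp [hz, hw]
    | smul r z _ hz => simp [hz]
  obtain ⟨y, hy, hyx⟩ := con_exact b φ h p x.2 (by rw [← key p D hD x, hx]; rfl)
  exact ⟨⟨y, hy⟩, Subtype.ext ((key (p + 1) D' hD' ⟨y, hy⟩).trans hyx)⟩

end Groth.Agent.KosExt
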